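import Cfsg.Agent.OddInvol.Main
import Cfsg.Agent.Chevalley.Data.SysE8

/-! Part 10: the certificates of type E8. -/

set_option autoImplicit false
set_option Elab.async false
set_option maxHeartbeats 2000000

namespace CfsgLib.OddInvol

open CfsgLib.Chevalley

/-- The certificates of type E8, one for each non-empty set of fundamental roots. -/
def certsE8 : List (List ℕ × Cert) := [
  ([0], .two 233 225 0 (1)),
  ([1], .two 234 232 1 (1)),
  ([0, 1], .two 234 232 1 (1)),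
  ([2], .two 234 233 2 (1)),
  ([0, 2], .contra 5),
  ([1, 2], .two 225 224 1 (1)),
  ([0, 1, 2], .contra 5),
  ([3], .two 235 234 3 (1)),
  ([0, 3], .two 235 234 3 (1)),
  ([1, 3], .contra 4),
  ([0, 1, 3], .contra 4),
  ([2, 3], .contra 4),
  ([0, 2, 3], .contra 4),
  ([1, 2, 3], .contra 14),
  ([0, 1, 2, 3], .contra 4),
  ([4], .two 236 235 4 (1)),
  ([0, 4], .two 236 235 4 (1)),
  ([1, 4], .two 236 235 4 (1)),
  ([0, 1, 4], .two 236 235 4 (1)),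
  ([2, 4], .two 236 235 4 (1)),
  ([0, 2, 4], .contra 5),
  ([1, 2, 4], .two 236 235 4 (1)),
  ([0, 1, 2, 4], .contra 5),
  ([3, 4], .contra 3),
  ([0, 3, 4], .contra 3),
  ([1, 3, 4], .contra 3),
  ([0, 1, 3, 4], .contra 3),
  ([2, 3, 4], .contra 3),
  ([0, 2, 3, 4], .contra 3),
  ([1, 2, 3, 4], .fam { M := [225, 224, 223], P := [(203, 1), (213, -1), (217, 1)], B := [], gens := [97, 98, 109, 130, 141], moves := [(some []), (some [1]), (some [1, 3])], steps := [(98, 1, 1), (97, 2, -1)], last := none }),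
  ([0, 1, 2, 3, 4], .contra 3),
  ([5], .two 237 236 5 (1)),
  ([0, 5], .two 237 236 5 (1)),
  ([1, 5], .two 237 236 5 (1)),
  ([0, 1, 5], .two 237 236 5 (1)),
  ([2, 5], .two 237 236 5 (1)),
  ([0, 2, 5], .contra 5),
  ([1, 2, 5], .two 237 236 5 (1)),
  ([0, 1, 2, 5], .contra 5),
  ([3, 5], .two 237 236 5 (1)),
  ([0, 3, 5], .two 237 236 5 (1)),
  ([1, 3, 5], .contra 4),
  ([0, 1, 3, 5], .contra 4),
  ([2, 3, 5], .contra 4),
  ([0, 2, 3, 5], .contra 4),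
  ([1, 2, 3, 5], .contra 14),
  ([0, 1, 2, 3, 5], .contra 4),
  ([4, 5], .contra 2),
  ([0, 4, 5], .contra 2),
  ([1, 4, 5], .contra 2),
  ([0, 1, 4, 5], .contra 2),
  ([2, 4, 5], .contra 2),
  ([0, 2, 4, 5], .contra 2),
  ([1, 2, 4, 5], .contra 2),
  ([0, 1, 2, 4, 5], .contra 2),
  ([3, 4, 5], .contra 2),
  ([0, 3, 4, 5], .contra 2),
  ([1, 3, 4, 5], .contra 2),
  ([0, 1, 3, 4, 5], .contra 2),
  ([2, 3, 4, 5], .contra 2),
  ([0, 2, 3, 4, 5], .contra 2),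
  ([1, 2, 3, 4, 5], .contra 14),
  ([0, 1, 2, 3, 4, 5], .contra 2),
  ([6], .two 238 237 6 (1)),
  ([0, 6], .two 238 237 6 (1)),
  ([1, 6], .two 238 237 6 (1)),
  ([0, 1, 6], .two 238 237 6 (1)),
  ([2, 6], .two 238 237 6 (1)),
  ([0, 2, 6], .contra 5),
  ([1, 2, 6], .two 238 237 6 (1)),
  ([0, 1, 2, 6], .contra 5),
  ([3, 6], .two 238 237 6 (1)),
  ([0, 3, 6], .two 238 237 6 (1)),
  ([1, 3, 6], .contra 4),
  ([0, 1, 3, 6], .contra 4),
  ([2, 3, 6], .contra 4),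
  ([0, 2, 3, 6], .contra 4),
  ([1, 2, 3, 6], .contra 14),
  ([0, 1, 2, 3, 6], .contra 4),
  ([4, 6], .two 238 237 6 (1)),
  ([0, 4, 6], .two 238 237 6 (1)),
  ([1, 4, 6], .two 238 237 6 (1)),
  ([0, 1, 4, 6], .two 238 237 6 (1)),
  ([2, 4, 6], .two 238 237 6 (1)),
  ([0, 2, 4, 6], .contra 5),
  ([1, 2, 4, 6], .two 238 237 6 (1)),
  ([0, 1, 2, 4, 6], .contra 5),
  ([3, 4, 6], .contra 3),
  ([0, 3, 4, 6], .contra 3),
  ([1, 3, 4, 6], .contra 3),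
  ([0, 1, 3, 4, 6], .contra 3),
  ([2, 3, 4, 6], .contra 3),
  ([0, 2, 3, 4, 6], .contra 3),
  ([1, 2, 3, 4, 6], .two 238 237 6 (1)),
  ([0, 1, 2, 3, 4, 6], .contra 3),
  ([5, 6], .contra 1),
  ([0, 5, 6], .contra 1),
  ([1, 5, 6], .contra 1),
  ([0, 1, 5, 6], .contra 1),
  ([2, 5, 6], .contra 1),
  ([0, 2, 5, 6], .contra 1),
  ([1, 2, 5, 6], .contra 1),
  ([0, 1, 2, 5, 6], .contra 1),
  ([3, 5, 6], .contra 1),
  ([0, 3, 5, 6], .contra 1),
  ([1, 3, 5, 6], .contra 1),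
  ([0, 1, 3, 5, 6], .contra 1),
  ([2, 3, 5, 6], .contra 1),
  ([0, 2, 3, 5, 6], .contra 1),
  ([1, 2, 3, 5, 6], .contra 1),
  ([0, 1, 2, 3, 5, 6], .contra 1),
  ([4, 5, 6], .contra 1),
  ([0, 4, 5, 6], .contra 1),
  ([1, 4, 5, 6], .contra 1),
  ([0, 1, 4, 5, 6], .contra 1),
  ([2, 4, 5, 6], .contra 1),
  ([0, 2, 4, 5, 6], .contra 1),
  ([1, 2, 4, 5, 6], .contra 1),
  ([0, 1, 2, 4, 5, 6], .contra 1),
  ([3, 4, 5, 6], .contra 1),
  ([0, 3, 4, 5, 6], .contra 1),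
  ([1, 3, 4, 5, 6], .contra 1),
  ([0, 1, 3, 4, 5, 6], .contra 1),
  ([2, 3, 4, 5, 6], .contra 1),
  ([0, 2, 3, 4, 5, 6], .contra 1),
  ([1, 2, 3, 4, 5, 6], .fam { M := [225, 224, 223], P := [(168, 1), (173, -1), (177, 1)], B := [], gens := [97, 98, 109, 130, 141], moves := [(some []), (some [1]), (some [1, 3])], steps := [(98, 1, 1), (97, 2, -1)], last := none }),
  ([0, 1, 2, 3, 4, 5, 6], .fam { M := [226, 219, 214], P := [(13, 1), (20, 1), (25, 1)], B := [], gens := [76, 77, 104, 135, 162], moves := [(some []), (some [0]), (some [0, 2])], steps := [(77, 1, 1), (76, 2, -1)], last := none }),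
  ([7], .two 239 238 7 (1)),
  ([0, 7], .two 239 238 7 (1)),
  ([1, 7], .two 239 238 7 (1)),
  ([0, 1, 7], .two 239 238 7 (1)),
  ([2, 7], .two 239 238 7 (1)),
  ([0, 2, 7], .contra 5),
  ([1, 2, 7], .two 239 238 7 (1)),
  ([0, 1, 2, 7], .contra 5),
  ([3, 7], .two 239 238 7 (1)),
  ([0, 3, 7], .two 239 238 7 (1)),
  ([1, 3, 7], .contra 4),
  ([0, 1, 3, 7], .contra 4),
  ([2, 3, 7], .contra 4),
  ([0, 2, 3, 7], .contra 4),
  ([1, 2, 3, 7], .contra 14),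
  ([0, 1, 2, 3, 7], .contra 4),
  ([4, 7], .two 239 238 7 (1)),
  ([0, 4, 7], .two 239 238 7 (1)),
  ([1, 4, 7], .two 239 238 7 (1)),
  ([0, 1, 4, 7], .two 239 238 7 (1)),
  ([2, 4, 7], .two 239 238 7 (1)),
  ([0, 2, 4, 7], .contra 5),
  ([1, 2, 4, 7], .two 239 238 7 (1)),
  ([0, 1, 2, 4, 7], .contra 5),
  ([3, 4, 7], .contra 3),
  ([0, 3, 4, 7], .contra 3),
  ([1, 3, 4, 7], .contra 3),
  ([0, 1, 3, 4, 7], .contra 3),
  ([2, 3, 4, 7], .contra 3),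
  ([0, 2, 3, 4, 7], .contra 3),
  ([1, 2, 3, 4, 7], .two 239 238 7 (1)),
  ([0, 1, 2, 3, 4, 7], .contra 3),
  ([5, 7], .two 239 238 7 (1)),
  ([0, 5, 7], .two 239 238 7 (1)),
  ([1, 5, 7], .two 239 238 7 (1)),
  ([0, 1, 5, 7], .two 239 238 7 (1)),
  ([2, 5, 7], .two 239 238 7 (1)),
  ([0, 2, 5, 7], .contra 5),
  ([1, 2, 5, 7], .two 239 238 7 (1)),
  ([0, 1, 2, 5, 7], .contra 5),
  ([3, 5, 7], .two 239 238 7 (1)),
  ([0, 3, 5, 7], .two 239 238 7 (1)),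
  ([1, 3, 5, 7], .contra 4),
  ([0, 1, 3, 5, 7], .contra 4),
  ([2, 3, 5, 7], .contra 4),
  ([0, 2, 3, 5, 7], .contra 4),
  ([1, 2, 3, 5, 7], .contra 14),
  ([0, 1, 2, 3, 5, 7], .contra 4),
  ([4, 5, 7], .contra 2),
  ([0, 4, 5, 7], .contra 2),
  ([1, 4, 5, 7], .contra 2),
  ([0, 1, 4, 5, 7], .contra 2),
  ([2, 4, 5, 7], .contra 2),
  ([0, 2, 4, 5, 7], .contra 2),
  ([1, 2, 4, 5, 7], .contra 2),
  ([0, 1, 2, 4, 5, 7], .contra 2),
  ([3, 4, 5, 7], .contra 2),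
  ([0, 3, 4, 5, 7], .contra 2),
  ([1, 3, 4, 5, 7], .contra 2),
  ([0, 1, 3, 4, 5, 7], .contra 2),
  ([2, 3, 4, 5, 7], .contra 2),
  ([0, 2, 3, 4, 5, 7], .contra 2),
  ([1, 2, 3, 4, 5, 7], .contra 14),
  ([0, 1, 2, 3, 4, 5, 7], .contra 2),
  ([6, 7], .contra 0),
  ([0, 6, 7], .contra 0),
  ([1, 6, 7], .contra 0),
  ([0, 1, 6, 7], .contra 0),
  ([2, 6, 7], .contra 0),
  ([0, 2, 6, 7], .contra 0),
  ([1, 2, 6, 7], .contra 0),
  ([0, 1, 2, 6, 7], .contra 0),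
  ([3, 6, 7], .contra 0),
  ([0, 3, 6, 7], .contra 0),
  ([1, 3, 6, 7], .contra 0),
  ([0, 1, 3, 6, 7], .contra 0),
  ([2, 3, 6, 7], .contra 0),
  ([0, 2, 3, 6, 7], .contra 0),
  ([1, 2, 3, 6, 7], .contra 0),
  ([0, 1, 2, 3, 6, 7], .contra 0),
  ([4, 6, 7], .contra 0),
  ([0, 4, 6, 7], .contra 0),
  ([1, 4, 6, 7], .contra 0),
  ([0, 1, 4, 6, 7], .contra 0),
  ([2, 4, 6, 7], .contra 0),
  ([0, 2, 4, 6, 7], .contra 0),
  ([1, 2, 4, 6, 7], .contra 0),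
  ([0, 1, 2, 4, 6, 7], .contra 0),
  ([3, 4, 6, 7], .contra 0),
  ([0, 3, 4, 6, 7], .contra 0),
  ([1, 3, 4, 6, 7], .contra 0),
  ([0, 1, 3, 4, 6, 7], .contra 0),
  ([2, 3, 4, 6, 7], .contra 0),
  ([0, 2, 3, 4, 6, 7], .contra 0),
  ([1, 2, 3, 4, 6, 7], .contra 0),
  ([0, 1, 2, 3, 4, 6, 7], .contra 0),
  ([5, 6, 7], .contra 0),
  ([0, 5, 6, 7], .contra 0),
  ([1, 5, 6, 7], .contra 0),
  ([0, 1, 5, 6, 7], .contra 0),
  ([2, 5, 6, 7], .contra 0),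
  ([0, 2, 5, 6, 7], .contra 0),
  ([1, 2, 5, 6, 7], .contra 0),
  ([0, 1, 2, 5, 6, 7], .contra 0),
  ([3, 5, 6, 7], .contra 0),
  ([0, 3, 5, 6, 7], .contra 0),
  ([1, 3, 5, 6, 7], .contra 0),
  ([0, 1, 3, 5, 6, 7], .contra 0),
  ([2, 3, 5, 6, 7], .contra 0),
  ([0, 2, 3, 5, 6, 7], .contra 0),
  ([1, 2, 3, 5, 6, 7], .contra 0),
  ([0, 1, 2, 3, 5, 6, 7], .contra 0),
  ([4, 5, 6, 7], .contra 0),
  ([0, 4, 5, 6, 7], .contra 0),
  ([1, 4, 5, 6, 7], .contra 0),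
  ([0, 1, 4, 5, 6, 7], .contra 0),
  ([2, 4, 5, 6, 7], .contra 0),
  ([0, 2, 4, 5, 6, 7], .contra 0),
  ([1, 2, 4, 5, 6, 7], .contra 0),
  ([0, 1, 2, 4, 5, 6, 7], .contra 0),
  ([3, 4, 5, 6, 7], .contra 0),
  ([0, 3, 4, 5, 6, 7], .contra 0),
  ([1, 3, 4, 5, 6, 7], .contra 0),
  ([0, 1, 3, 4, 5, 6, 7], .contra 0),
  ([2, 3, 4, 5, 6, 7], .contra 0),
  ([0, 2, 3, 4, 5, 6, 7], .contra 0),
  ([1, 2, 3, 4, 5, 6, 7], .contra 14),
  ([0, 1, 2, 3, 4, 5, 6, 7], .fam { M := [239, 238, 237], P := [(0, 1), (1, 1), (2, 1)], B := [], gens := [117, 118, 119, 120, 121], moves := [(some []), (some [7]), (some [7, 6])], steps := [(119, 1, 1), (117, 2, 1)], last := none })]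

/-- The check at one set of fundamental roots. -/
def certOneE8 (J : List ℕ) : Bool :=
  J.isEmpty || certsE8.any fun e => decide (e.1 = J) && chkCert Cfsg.Lie.chevE8 tabE8 J e.2

/-- The sets of fundamental roots. -/
def subsE8 : List (List ℕ) := (List.range Cfsg.Lie.chevE8.rank).sublists

theorem certChunkE8_0 : ((subsE8.drop 0).take 32).all certOneE8 = true := by decide +kernel

theorem certChunkE8_1 : ((subsE8.drop 32).take 32).all certOneE8 = true := by decide +kernel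

theorem certChunkE8_2 : ((subsE8.drop 64).take 32).all certOneE8 = true := by decide +kernel

theorem certChunkE8_3 : ((subsE8.drop 96).take 32).all certOneE8 = true := by decide +kernel

theorem certChunkE8_4 : ((subsE8.drop 128).take 32).all certOneE8 = true := by decide +kernel

theorem certChunkE8_5 : ((subsE8.drop 160).take 32).all certOneE8 = true := by decide +kernel

theorem certChunkE8_6 : ((subsE8.drop 192).take 32).all certOneE8 = true := by decide +kernel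

theorem certChunkE8_7 : (subsE8.drop 224).all certOneE8 = true := by decide +kernel

theorem all_of_take_drop {α : Type} {f : α → Bool} {l : List α} (a b : ℕ)
    (h1 : ((l.drop a).take b).all f = true) (h2 : (l.drop (a + b)).all f = true) :
    (l.drop a).all f = true := by
  rw [← List.take_append_drop b (l.drop a), List.all_append, List.drop_drop, h1, h2]
  rfl

theorem chkCertsE8 : chkCerts Cfsg.Lie.chevE8 tabE8 certsE8 = true :=
  show (subsE8.drop 0).all certOneE8 = true from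
    (all_of_take_drop 0 32 certChunkE8_0
      (all_of_take_drop 32 32 certChunkE8_1
      (all_of_take_drop 64 32 certChunkE8_2
      (all_of_take_drop 96 32 certChunkE8_3
      (all_of_take_drop 128 32 certChunkE8_4
      (all_of_take_drop 160 32 certChunkE8_5
      (all_of_take_drop 192 32 certChunkE8_6
      certChunkE8_7)))))))

end CfsgLib.OddInvol
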