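import Cfsg.Agent.OddInvol.Orbit
import Cfsg.Agent.OddInvol.DataE8

/-! Part 16: the orbits on the characters of order two, type E8. -/

set_option autoImplicit false
set_option maxHeartbeats 2000000
set_option maxRecDepth 100000

namespace CfsgLib.OddInvol

open CfsgLib.Chevalley

/-- The orbit of the character 1. -/
def orbE8A : List (ℕ × ℕ × ℕ) := [(1, 0, 0), (5, 0, 0), (12, 2, 1), (26, 3, 2), (18, 1, 3), (50, 4, 3), (58, 4, 4), (98, 5, 5), (44, 3, 6), (106, 5, 6), (194, 6, 7), (37, 2, 8), (124, 5, 8), (202, 6, 9), (130, 7, 10), (33, 0, 11), (117, 5, 11), (84, 4, 12), (220, 6, 12), (138, 7, 13), (113, 5, 15), (93, 4, 16), (213, 6, 16), (244, 6, 17), (156, 7, 18), (89, 4, 20), (209, 6, 20), (75, 3, 21), (253, 6, 21), (149, 7, 22), (164, 5, 23), (180, 7, 23), (79, 3, 25), (249, 6, 25), (145, 7, 26), (67, 1, 27), (235, 6, 27), (173, 5, 28), (189, 7, 28), (228, 7, 30), (71, 1, 32), (70, 2, 32), (239, 6, 32), (169, 5,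 33), (185, 7, 33), (227, 6, 35), (187, 5, 36), (171, 7, 36), (237, 7, 37), (68, 6, 39), (78, 2, 40), (231, 6, 40), (230, 6, 41), (191, 5, 42), (175, 7, 42), (233, 7, 43), (179, 5, 45), (163, 7, 45), (147, 4, 46), (251, 7, 46), (77, 6, 48), (88, 3, 50), (238, 6, 50), (183, 5, 51), (167, 7, 51), (182, 5, 52), (166, 7, 52), (151, 4, 53), (255, 7, 53), (73, 6, 55), (155, 4, 56), (243, 7, 56), (211, 7, 58), (91, 6, 59), (112, 4, 61), (248, 6, 61), (190, 5, 62), (174, 7, 62), (159, 4, 63), (247, 7, 63), (158, 4, 65), (246, 7, 65), (215, 7, 67), (95, 6, 68), (141, 3, 70), (219, 7, 70), (83, 6, 71), (115, 6, 72), (32, 5, 74), (208, 6, 74), (168, 5, 75), (184, 7, 75), (150, 4, 76), (254, 7, 76), (137, 3, 78), (223, 7, 78), (87, 6, 79), (136, 3, 80), (222, 7, 80), (86, 6, 81), (119, 6, 82), (132, 2, 84), (205, 7, 84), (123, 6, 85), (35, 5, 87), (144, 7, 89), (232, 7, 90), (214, 7, 92), (94, 6, 93), (201, 7, 94), (127, 6, 95),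 (200, 7, 97), (126, 6, 98), (39, 5, 100), (196, 7, 101), (109, 6, 102), (43, 5, 103), (72, 6, 106), (118, 6, 107), (105, 6, 109), (47, 5, 110), (104, 6, 111), (46, 5, 112), (100, 6, 114), (61, 5, 115), (38, 5, 118), (57, 5, 119), (56, 5, 121), (52, 5, 123), (21, 4, 124), (17, 4, 126), (16, 4, 127), (28, 4, 128), (10, 3, 132), (2, 1, 133)]

/-- The orbit of the character 3. -/
def orbE8B : List (ℕ × ℕ × ℕ) := [(3, 0, 0), (7, 0, 0), (11, 1, 0), (15, 1, 1), (14, 2, 1), (29, 3, 2), (6, 2, 3), (25, 3, 3), (24, 3, 4), (20, 2, 5), (53, 4, 5), (49, 4, 7), (48, 4, 8), (60, 4, 9), (101, 5, 10), (97, 5, 11), (96, 5, 12), (42, 3, 13), (108, 5, 13), (197, 6, 14), (193, 6, 15), (192, 6, 16), (34, 1, 17), (122, 5, 17), (204, 6, 18), (133, 7, 19), (129, 7, 20), (128, 7, 21), (114, 5, 22), (82, 4, 23), (218, 6, 23), (140, 7, 24), (90, 4, 28), (210, 6, 28), (242, 6, 29), (154, 7, 30), (76, 3, 32), (250, 6, 32), (146, 7, 33), (162,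 5, 34), (178, 7, 34), (69, 2, 36), (236, 6, 36), (170, 5, 37), (186, 7, 37), (226, 7, 39), (65, 0, 41), (229, 6, 41), (188, 5, 42), (172, 7, 42), (234, 7, 43), (66, 6, 45), (225, 6, 46), (181, 5, 47), (165, 7, 47), (148, 4, 48), (252, 7, 48), (74, 6, 50), (177, 5, 52), (161, 7, 52), (157, 4, 53), (245, 7, 53), (212, 7, 55), (92, 6, 56), (153, 4, 58), (241, 7, 58), (139, 3, 60), (221, 7, 60), (85, 6, 61), (116, 6, 62), (143, 3, 64), (217, 7, 64), (81, 6, 65), (131, 1, 66), (203, 7, 66), (125, 6, 67), (36, 5, 69), (135, 1, 70), (134, 2, 70), (207, 7, 70), (121, 6, 71), (195, 7, 73), (107, 6, 74), (45, 5, 75), (142, 2, 77), (199, 7, 77), (198, 7, 78), (111, 6, 79), (41, 5, 80), (99, 6, 81), (59, 5, 82), (152, 3, 84), (206, 7, 84), (103, 6, 85), (102, 6, 86), (63, 5, 87), (51, 5, 89), (19, 4, 90), (176, 4, 91), (216, 7, 91), (110, 6, 92), (55, 5, 93), (54, 5, 94), (23, 4, 95), (27, 4, 96), (224, 5, 98), (240, 7, 98),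 (120, 6, 99), (62, 5, 100), (31, 4, 101), (30, 4, 102), (13, 3, 104), (64, 6, 105), (160, 7, 105), (80, 6, 106), (40, 5, 107), (22, 4, 108), (9, 3, 109), (8, 3, 110), (4, 2, 111)]

theorem chkOrbE8 : chkOrbits Cfsg.Lie.chevE8 parE8 orbE8A orbE8B = true := by decide +kernel

end CfsgLib.OddInvol
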